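import Groth.Agent.SerreClosLib.Alg
import Groth.Agent.SubLib.ExtendWO
import Groth.Agent.QCohLib.FPSections
import Groth.Agent.PullbackMod.OpenLocus
import Groth.Prelude.Def_CohB1

/-!
# The smallest localizing Serre class containing a finitely presented module
-/

set_option autoImplicit false
set_option backward.isDefEq.respectTransparency false
set_option backward.defeqAttrib.useBackward true
set_option linter.style.haveILetI false

universe u

open CategoryTheory CategoryTheory.Limits AlgebraicGeometry TopologicalSpace Opposite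
open Groth.Agent.CohBase Groth.Agent.QCohLib Groth.Agent.SubLib

noncomputable section

namespace Groth.Agent.SerreClosLib

variable {X : Scheme.{u}}

theorem app_injective_of_mono {M N : X.Modules} (i : M ⟶ N) [Mono i] (V : X.Opens) :
    Function.Injective (i.app V) := by
  let S : ShortComplex X.Modules := ShortComplex.mk i (cokernel.π i) (cokernel.condition i)
  exact app_injective (S := S) (ShortComplex.ShortExact.mk'
    (ShortComplex.exact_of_g_is_cokernel _ (cokernelIsCokernel _)) inferInstance inferInstance) V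

theorem shortExact_kernel {M N : X.Modules} (q : M ⟶ N) [Epi q] :
    (ShortComplex.mk (kernel.ι q) q (kernel.condition q)).ShortExact :=
  ShortComplex.ShortExact.mk' (ShortComplex.exact_of_f_is_kernel _ (kernelIsKernel _))
    inferInstance inferInstance

theorem shortExact_cokernel {M N : X.Modules} (i : M ⟶ N) [Mono i] :
    (ShortComplex.mk i (cokernel.π i) (cokernel.condition i)).ShortExact :=
  ShortComplex.ShortExact.mk' (ShortComplex.exact_of_g_is_cokernel _ (cokernelIsCokernel _))
    inferInstance inferInstance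

theorem eq_zero_of_germ {M : X.Modules} {U : X.Opens} {s : Γ(M, U)}
    (h : ∀ x (hx : x ∈ U), M.presheaf.germ U x hx s = 0) : s = 0 :=
  TopCat.Presheaf.section_ext (⟨M.presheaf, M.isSheaf⟩ : TopCat.Sheaf Ab X) U _ _
    fun x hx => (h x hx).trans (map_zero (M.presheaf.germ U x hx).hom).symm

theorem isZero_of_sections {M : X.Modules} (h : ∀ (V : X.Opens) (s : Γ(M, V)), s = 0) : IsZero M := by
  refine (IsZero.iff_id_eq_zero M).2 (Scheme.Modules.hom_ext _ _ fun V => ?_)
  refine AddCommGrpCat.hom_ext (AddMonoidHom.ext fun s => ?_)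
  rw [Scheme.Modules.Hom.zero_app]
  exact h V s

theorem sections_of_isZero {M : X.Modules} (h : IsZero M) (V : X.Opens) (s : Γ(M, V)) : s = 0 := by
  have := congr($((IsZero.iff_id_eq_zero M).1 h).app V s)
  simpa using this

/-- If the sections on an affine open vanish, so do the germs there. -/
theorem germ_eq_zero_of_sections {M : X.Modules} (hM : Coh.IsQCoh M) {U : X.Opens} (hU : IsAffineOpen U)
    (h : ∀ s : Γ(M, U), s = 0) {V : X.Opens} (x : X) (hxV : x ∈ V) (hxU : x ∈ U) (t : Γ(M, V)) :
    M.presheaf.germ V x hxV t = 0 := by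
  haveI := hM
  letI := Module.compHom (M.presheaf.stalk x) (X.presheaf.germ U x hxU).hom
  haveI := FlatLocus.isLocalizedModule_germL M hU x hxU
  obtain ⟨⟨m, a⟩, hma⟩ := IsLocalizedModule.surj (hU.primeIdealOf ⟨x, hxU⟩).asIdeal.primeCompl
    (FlatLocus.germL M U x hxU) (M.presheaf.germ V x hxV t)
  rw [h m, map_zero] at hma
  exact ((Module.End.isUnit_iff _).1
    (IsLocalizedModule.map_units (FlatLocus.germL M U x hxU) a)).1
      (hma.trans (map_zero _).symm)

theorem exists_affine_section {M : X.Modules} (hM : Coh.IsQCoh M) (hne : ¬ IsZero M) :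
    ∃ U : X.Opens, IsAffineOpen U ∧ ∃ s : Γ(M, U), s ≠ 0 := by
  by_contra hc
  push Not at hc
  refine hne (isZero_of_sections fun V s => eq_zero_of_germ fun x hx => ?_)
  obtain ⟨_, ⟨U, hU, rfl⟩, hxU, -⟩ :=
    X.isBasis_affineOpens.exists_subset_of_mem_open (Set.mem_univ x) isOpen_univ
  exact germ_eq_zero_of_sections hM hU (hc U hU) x hx hxU s

/-- Sections do not live outside `U`. -/
def Sep (M : X.Modules) (U : X.Opens) : Prop :=
  ∀ (V : X.Opens) (s : Γ(M, V)),
    (∀ x (hx : x ∈ V), x ∈ U → M.presheaf.germ V x hx s = 0) → s = 0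

/-- A nonzero quasi-coherent module has a nonzero one inside it without sections outside some affine. -/
theorem exists_sep [QuasiSeparatedSpace X] (l : List X.affineOpens) (E : X.Modules)
    (hE : Coh.IsQCoh E) (hne : ¬ IsZero E)
    (hout : ∀ (V : X.Opens) (s : Γ(E, V)) (x : X) (hx : x ∈ V),
      (∀ U ∈ l, x ∉ U.1) → E.presheaf.germ V x hx s = 0) :
    ∃ (U : X.Opens) (_ : IsAffineOpen U) (E' : X.Modules) (i : E' ⟶ E),
      Mono i ∧ Coh.IsQCoh E' ∧ ¬ IsZero E' ∧ Sep E' U := by
  induction l generalizing E with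
  | nil =>
    refine absurd (isZero_of_sections fun V s => eq_zero_of_germ fun x hx =>
      hout V s x hx (fun U h => absurd h (List.not_mem_nil))) hne
  | cons U l ih =>
    haveI := hE
    haveI : QuasiCompact U.1.ι := quasiCompact_ι_of_isCompact_inter U.1 fun V hV =>
      QuasiSeparatedSpace.inter_isCompact _ _ V.isOpen hV U.1.isOpen U.2.isCompact
    let η : E ⟶ (Scheme.Modules.pushforward U.1.ι).obj (E.restrict U.1.ι) :=
      (Scheme.Modules.restrictAdjunction U.1.ι).unit.app E
    have hP : Coh.IsQCoh ((Scheme.Modules.pushforward U.1.ι).obj (E.restrict U.1.ι)) :=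
      isQCoh_push_open U.1 _
    have hK : Coh.IsQCoh (kernel η) := (isQCoh_image η hE hP).1
    have hη : ∀ (V : X.Opens) (s : Γ(E, V)), η.app V s = 0 ↔
        E.presheaf.map (homOfLE (U.1.ι.image_preimage_le V)).op s = 0 := fun V s => Iff.rfl
    by_cases hz : IsZero (kernel η)
    · refine ⟨U.1, U.2, E, 𝟙 E, inferInstance, hE, hne, fun V s hs => ?_⟩
      have h0 : η.app V s = 0 := (hη V s).2 (eq_zero_of_germ fun x hx => by
        rw [E.presheaf.germ_res_apply]
        refine hs x _ ?_
        rw [← SetLike.mem_coe, Scheme.Hom.coe_image] at hx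
        obtain ⟨y, -, rfl⟩ := hx
        exact y.2)
      obtain ⟨t, rfl⟩ := kernel_app_exact η V s h0
      rw [sections_of_isZero hz V t, map_zero]
    · obtain ⟨U', hU', E', i, hi, hqi, hnei, hsep⟩ := ih (kernel η) hK hz fun V t x hx hxl => by
        haveI : Mono (kernel.ι η) := inferInstance
        refine (PullbackMod.mono_iff_stalk (kernel.ι η)).1 inferInstance x ?_
        rw [PullbackMod.stalkLin_germ, map_zero]
        by_cases hxU : x ∈ U.1
        · have h0 : η.app V ((kernel.ι η).app V t) = 0 := congr($(kernel.condition η).app V t)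
          have h1 := (hη V _).1 h0
          have hxm : x ∈ U.1.ι ''ᵁ (U.1.ι ⁻¹ᵁ V) := by
            rw [← SetLike.mem_coe, Scheme.Hom.coe_image]
            exact ⟨⟨x, hxU⟩, hx, rfl⟩
          have h2 := congrArg (E.presheaf.germ _ x hxm) h1
          rwa [E.presheaf.germ_res_apply, map_zero] at h2
        · exact hout V _ x hx fun U'' hU'' => by
            rcases List.mem_cons.1 hU'' with rfl | h
            · exact hxU
            · exact hxl U'' h
      haveI := hi
      exact ⟨U', hU', E', i ≫ kernel.ι η, inferInstance, hqi, hnei, hsep⟩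

/-- Nonzero germs live in the support of `F`. -/
def Supp (F M : X.Modules) : Prop :=
  ∀ (V : X.Opens) (s : Γ(M, V)) (x : X) (hx : x ∈ V),
    M.presheaf.germ V x hx s ≠ 0 → x ∈ CohB1.support F

theorem Supp.of_mono {F M N : X.Modules} (h : Supp F N) (i : M ⟶ N) [Mono i] : Supp F M := by
  intro V s x hx hs
  refine h V (i.app V s) x hx fun h0 => hs ?_
  refine (PullbackMod.mono_iff_stalk i).1 inferInstance x ?_
  rw [PullbackMod.stalkLin_germ, h0, map_zero]

theorem Supp.of_epi {F M N : X.Modules} (h : Supp F M) (q : M ⟶ N) [Epi q] : Supp F N := by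
  intro V s x hx hs
  obtain ⟨z, hz⟩ := (PullbackMod.epi_iff_stalk q).1 inferInstance x (N.presheaf.germ V x hx s)
  obtain ⟨W, hxW, t, rfl⟩ := TopCat.Presheaf.exists_germ_eq M.presheaf z
  refine h W t x hxW fun h0 => hs ?_
  rw [← hz, h0, map_zero]

theorem supp_of_subset {F E : X.Modules} (h : CohB1.support E ⊆ CohB1.support F) : Supp F E :=
  fun V s x hx hs => h fun hsub => hs (@Subsingleton.elim _ hsub _ _)

section Graph

variable (F E : X.Modules)

/-- A nonzero map on sections over an affine extends to a map to a module without sections outside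
that affine, defined on a submodule. -/
theorem exists_graph [CompactSpace X] [QuasiSeparatedSpace X] (hF : Coh.IsQCoh F) (hE : Coh.IsQCoh E)
    {U : X.Opens} (hU : IsAffineOpen U) [Module.Finite Γ(X, U) Γ(F, U)] (hsep : Sep E U)
    (φ : Γ(F, U) →ₗ[Γ(X, U)] Γ(E, U)) (hφ : φ ≠ 0) :
    ∃ (G : X.Modules) (i : G ⟶ F) (j : G ⟶ E), Mono i ∧ Coh.IsQCoh G ∧ j ≠ 0 := by
  classical
  haveI := hF
  haveI := hE
  haveI hW : Coh.IsQCoh (F ⊞ E) :=
    isQCoh_X₂ (ShortComplex.Splitting.ofHasBinaryBiproduct F E).shortExact hF hE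
  let p1 : F ⊞ E ⟶ F := biprod.fst
  let p2 : F ⊞ E ⟶ E := biprod.snd
  let T : Γ(F, U) →ₗ[Γ(X, U)] Γ(F ⊞ E, U) :=
    FlatLocus.appL (biprod.inl : F ⟶ F ⊞ E) U +
      (FlatLocus.appL (biprod.inr : E ⟶ F ⊞ E) U).comp φ
  have hT1 : ∀ m, p1.app U (T m) = m := fun m => by
    show p1.app U ((biprod.inl : F ⟶ F ⊞ E).app U m + (biprod.inr : E ⟶ F ⊞ E).app U (φ m)) = m
    have e1 : p1.app U ((biprod.inl : F ⟶ F ⊞ E).app U m) = m :=
      congr($(biprod.inl_fst (X := F) (Y := E)).app U m)
    have e2 : p1.app U ((biprod.inr : E ⟶ F ⊞ E).app U (φ m)) = 0 :=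
      congr($(biprod.inr_fst (X := F) (Y := E)).app U (φ m))
    rw [map_add, e1, e2, add_zero]
  have hT2 : ∀ m, p2.app U (T m) = φ m := fun m => by
    show p2.app U ((biprod.inl : F ⟶ F ⊞ E).app U m + (biprod.inr : E ⟶ F ⊞ E).app U (φ m)) = φ m
    have e1 : p2.app U ((biprod.inl : F ⟶ F ⊞ E).app U m) = 0 :=
      congr($(biprod.inl_snd (X := F) (Y := E)).app U m)
    have e2 : p2.app U ((biprod.inr : E ⟶ F ⊞ E).app U (φ m)) = φ m :=
      congr($(biprod.inr_snd (X := F) (Y := E)).app U (φ m))
    rw [map_add, e1, e2, zero_add]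
  obtain ⟨g, hg⟩ := (Module.Finite.fg_top : (⊤ : Submodule Γ(X, U) Γ(F, U)).FG)
  let S : Finset Γ(F ⊞ E, U) := g.image T
  let N₀ : StalkSub (F ⊞ E) := fun z => if hz : z ∈ U then
    Submodule.span (X.presheaf.stalk z) ((F ⊞ E).presheaf.germ U z hz '' (S : Set Γ(F ⊞ E, U))) else ⊥
  have hN₀ : ∀ z (hz : z ∈ U), N₀ z =
      Submodule.span (X.presheaf.stalk z) ((F ⊞ E).presheaf.germ U z hz '' (S : Set Γ(F ⊞ E, U))) :=
    fun z hz => dif_pos hz
  have hgood : Good N₀ U := fun x hx => ⟨U, hU, hx, le_rfl, S, hN₀⟩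
  obtain ⟨N, hN, hgoodN⟩ := exists_good_qcqs hU.isCompact hgood
  have hG : Coh.IsQCoh (subMod N) := isQCoh_subMod N fun x => by
    obtain ⟨W, hW, hx, -, h⟩ := hgoodN x trivial
    exact ⟨W, hW, hx, h⟩
  refine ⟨subMod N, subι N ≫ p1, subι N ≫ p2, ?_, hG, ?_⟩
  · refine ⟨fun a b hab => Scheme.Modules.hom_ext _ _ fun V =>
      AddCommGrpCat.hom_ext (AddMonoidHom.ext fun t => ?_)⟩
    rw [← sub_eq_zero]
    refine subι_app_injective N V ?_
    rw [map_zero]
    generalize hs : (subι N).app V (a.app V t - b.app V t) = s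
    have hsN : s ∈ sec N V := hs ▸ mem_sec_of_app N V _
    have h1 : p1.app V s = 0 := by
      have e : p1.app V ((subι N).app V (a.app V t)) = p1.app V ((subι N).app V (b.app V t)) :=
        congr($(hab).app V t)
      rw [← hs, map_sub, map_sub, e, sub_self]
    have h2 : p2.app V s = 0 := by
      refine hsep V _ fun z hzV hzU => ?_
      letI := Module.compHom (F.presheaf.stalk z) (X.presheaf.germ U z hzU).hom
      letI := Module.compHom (E.presheaf.stalk z) (X.presheaf.germ U z hzU).hom
      letI := TopCat.Presheaf.algebra_section_stalk X.presheaf ⟨z, hzU⟩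
      haveI : IsScalarTower Γ(X, U) (X.presheaf.stalk z) (F.presheaf.stalk z) :=
        .of_algebraMap_smul fun _ _ => rfl
      haveI : IsScalarTower Γ(X, U) (X.presheaf.stalk z) (E.presheaf.stalk z) :=
        .of_algebraMap_smul fun _ _ => rfl
      haveI := hU.isLocalization_stalk ⟨z, hzU⟩
      let Sz := (hU.primeIdealOf ⟨z, hzU⟩).asIdeal.primeCompl
      haveI : IsLocalizedModule Sz (FlatLocus.germL F U z hzU) :=
        FlatLocus.isLocalizedModule_germL F hU z hzU
      haveI : IsLocalizedModule Sz (FlatLocus.germL E U z hzU) :=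
        FlatLocus.isLocalizedModule_germL E hU z hzU
      let ψ : F.presheaf.stalk z →ₗ[X.presheaf.stalk z] E.presheaf.stalk z :=
        (IsLocalizedModule.map Sz (FlatLocus.germL F U z hzU) (FlatLocus.germL E U z hzU)
          φ).extendScalarsOfIsLocalization Sz (X.presheaf.stalk z)
      have hψ : ∀ m, ψ (F.presheaf.germ U z hzU m) = E.presheaf.germ U z hzU (φ m) := fun m =>
        IsLocalizedModule.map_apply Sz (FlatLocus.germL F U z hzU) (FlatLocus.germL E U z hzU) φ m
      have key : ∀ v ∈ N z, PullbackMod.stalkLin p2 z v = ψ (PullbackMod.stalkLin p1 z v) := by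
        rw [hN z hzU, hN₀ z hzU]
        refine fun v hv => LinearMap.eqOn_span (R := X.presheaf.stalk z)
          (f := PullbackMod.stalkLin p2 z) (g := ψ ∘ₗ PullbackMod.stalkLin p1 z) ?_ hv
        rintro _ ⟨w, hw, rfl⟩
        obtain ⟨m, -, rfl⟩ := Finset.mem_image.1 (Finset.mem_coe.1 hw)
        rw [LinearMap.comp_apply, PullbackMod.stalkLin_germ, PullbackMod.stalkLin_germ, hT1, hT2, hψ]
      rw [← PullbackMod.stalkLin_germ, key _ (hsN z hzV), PullbackMod.stalkLin_germ, h1, map_zero,
        map_zero]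
    have htot : (biprod.inl : F ⟶ F ⊞ E).app V (p1.app V s) +
        (biprod.inr : E ⟶ F ⊞ E).app V (p2.app V s) = s := by
      have h := congr($(biprod.total (X := F) (Y := E)).app V s)
      exact h
    rw [← htot, h1, h2, map_zero, map_zero, add_zero]
  · intro h0
    refine hφ (LinearMap.ext_on hg fun m hm => ?_)
    have hmem : T m ∈ sec N U := fun z hz => by
      rw [hN z hz, hN₀ z hz]
      exact Submodule.subset_span ⟨T m, Finset.mem_coe.2 (Finset.mem_image_of_mem T hm), rfl⟩
    let t : Γ(subMod N, U) := (⟨T m, hmem⟩ : sec N U)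
    have h : p2.app U ((subι N).app U t) = 0 := congr($(h0).app U t)
    rw [LinearMap.zero_apply, ← hT2 m]
    exact h

end Graph

end Groth.Agent.SerreClosLib
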