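import Groth.Agent.QCohLib.FPSections

/-!
# Coproducts of quasi-coherent modules
-/

set_option autoImplicit false
set_option backward.isDefEq.respectTransparency false
set_option backward.defeqAttrib.useBackward true
set_option linter.style.haveILetI false

universe u

open CategoryTheory CategoryTheory.Limits AlgebraicGeometry TopologicalSpace Opposite
open Groth.Agent.CohBase Groth.Agent.QCohLib

noncomputable section

namespace Groth.Agent.SerreClosLib

variable {X : Scheme.{u}}

/-- Coproducts of quasi-coherent modules are quasi-coherent. -/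
theorem isQCoh_sigma {ι : Type u} (f : ι → X.Modules) (h : ∀ i, Coh.IsQCoh (f i)) :
    Coh.IsQCoh (∐ f) := by
  classical
  have hW : ∀ W : X.affineOpens, Nonempty (((∐ f).restrict W.1.ι).Presentation) := fun W => by
    have hW := W.2
    let R := Scheme.Modules.restrictFunctor hW.fromSpec
    haveI : PreservesColimitsOfSize.{u, u} R :=
      (Scheme.Modules.restrictAdjunction hW.fromSpec).leftAdjoint_preservesColimits
    haveI : PreservesColimitsOfSize.{u, u} (tilde.functor Γ(X, W.1)) :=
      tilde.adjunction.leftAdjoint_preservesColimits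
    have hi : ∀ i, IsIso (Scheme.Modules.fromTildeΓ ((f i).restrict hW.fromSpec)) := fun i =>
      (isIso_fromTildeΓ_iff_isLocalizing _).mpr (haveI := h i; isLocalizing_restrict (f i) hW)
    let N : ι → ModuleCat.{u} Γ(X, W.1) := fun i =>
      (modulesSpecToSheaf.obj ((f i).restrict hW.fromSpec)).presheaf.obj (op ⊤)
    let e : (tilde.functor Γ(X, W.1)).obj (∐ N) ≅ R.obj (∐ f) :=
      PreservesCoproduct.iso (tilde.functor Γ(X, W.1)) N ≪≫
        Sigma.mapIso (fun i => @asIso _ _ _ _ (Scheme.Modules.fromTildeΓ ((f i).restrict hW.fromSpec)) (hi i)) ≪≫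
        (PreservesCoproduct.iso R f).symm
    exact ⟨SheafOfModules.Presentation.ofIsIso.{u, u, u}
      (((Scheme.Modules.restrictFunctorComp hW.isoSpec.hom hW.fromSpec).symm ≪≫
        Scheme.Modules.restrictFunctorCongr hW.isoSpec_hom_fromSpec).app (∐ f)).hom
      (Scheme.Modules.presentationRestrict hW.isoSpec.hom
        (SheafOfModules.Presentation.ofIsIso.{u, u, u} e.hom
          (presentationTilde.{u} _ .univ (by simp) _ (Submodule.span_eq _))))⟩
  exact SheafOfModules.QuasicoherentData.isQuasicoherent (R := X.ringCatSheaf) (M := ∐ f)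
    { I := X.affineOpens
      X := fun W => W.1
      coversTop := by
        rw [Opens.coversTop_iff, IsOpenCover]
        exact eq_top_iff.mpr fun x _ => by
          obtain ⟨_, ⟨W, hW', rfl⟩, hx, -⟩ :=
            X.isBasis_affineOpens.exists_subset_of_mem_open (Set.mem_univ x) isOpen_univ
          exact Opens.mem_iSup.mpr ⟨⟨W, hW'⟩, hx⟩
      presentation := fun W => presentationOver (∐ f) W.1 (hW W).some }

end Groth.Agent.SerreClosLib
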