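import Mathlib.Algebra.Module.FinitePresentation
import Mathlib.Algebra.Module.LocalizedModule.IsLocalization
import Mathlib.RingTheory.Localization.AtPrime.Basic
import Mathlib.RingTheory.Ideal.MinimalPrime.Basic
import Mathlib.RingTheory.Finiteness.Ideal

/-!
# A finitely presented module maps nontrivially to the modules supported in its support
-/

set_option autoImplicit false

universe u

namespace Groth.Agent.SerreClosLib

section Local

variable {R : Type u} [CommRing R] [IsLocalRing R]

/-- A minimal presentation of a finitely presented module over a local ring. -/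
theorem exists_presentation_in_maximal (M : Type u) [AddCommGroup M] [Module R M]
    [Module.FinitePresentation R M] [Nontrivial M] :
    ∃ (n : ℕ) (f : (Fin (n + 1) → R) →ₗ[R] M) (J : Ideal R),
      Function.Surjective f ∧ J.FG ∧ J ≤ IsLocalRing.maximalIdeal R ∧
        ∀ v, f v = 0 → ∀ i, v i ∈ J := by
  classical
  have hex : ∃ n, ∃ f : (Fin n → R) →ₗ[R] M, Function.Surjective f := Module.Finite.exists_fin' R M
  obtain ⟨f, hf⟩ := Nat.find_spec hex
  have hpos : Nat.find hex ≠ 0 := by
    intro h0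
    obtain ⟨a, b, hab⟩ := exists_pair_ne M
    obtain ⟨v, rfl⟩ := hf a
    obtain ⟨w, rfl⟩ := hf b
    refine hab (congrArg f (funext fun i => ?_))
    exact absurd i.2 (by omega)
  obtain ⟨n, hn⟩ := Nat.exists_eq_succ_of_ne_zero hpos
  have hmin : ¬ ∃ g : (Fin n → R) →ₗ[R] M, Function.Surjective g :=
    Nat.find_min hex (by omega)
  obtain ⟨f, hf⟩ : ∃ f : (Fin (n + 1) → R) →ₗ[R] M, Function.Surjective f := by
    rw [show n + 1 = Nat.find hex by omega]
    exact ⟨f, hf⟩
  obtain ⟨T, hT⟩ := Module.FinitePresentation.fg_ker f hf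
  let J : Ideal R := Ideal.span ((T.biUnion fun v => Finset.univ.image fun i => v i : Finset R) : Set R)
  refine ⟨n, f, J, hf, ⟨_, rfl⟩, ?_, fun v hv i => ?_⟩
  · refine Ideal.span_le.2 ?_
    intro a ha
    obtain ⟨v, hv, hva⟩ := Finset.mem_biUnion.1 ha
    obtain ⟨i, -, rfl⟩ := Finset.mem_image.1 hva
    by_contra hu
    have hu' : IsUnit (v i) := IsLocalRing.notMem_maximalIdeal.1 hu
    have hfv : f v = 0 := LinearMap.mem_ker.1 (hT ▸ Submodule.subset_span hv)
    let ι : (Fin n → R) →ₗ[R] (Fin (n + 1) → R) :=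
      { toFun := fun w => Fin.insertNth i 0 w
        map_add' := fun w w' => by
          funext j
          refine Fin.succAboveCases i ?_ (fun j => ?_) j <;> simp
        map_smul' := fun c w => by
          funext j
          refine Fin.succAboveCases i ?_ (fun j => ?_) j <;> simp }
    refine hmin ⟨f.comp ι, fun y => ?_⟩
    obtain ⟨z, rfl⟩ := hf y
    obtain ⟨u, hu⟩ := hu'
    let z' := z - (z i * ↑u⁻¹) • v
    refine ⟨fun j => z' (i.succAbove j), ?_⟩
    have hz' : Fin.insertNth i 0 (fun j => z' (i.succAbove j)) = z' := by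
      funext j
      refine Fin.succAboveCases i ?_ (fun j => ?_) j
      · simp [z', ← hu]
      · simp
    change f (Fin.insertNth i 0 (fun j => z' (i.succAbove j))) = f z
    rw [hz', map_sub, map_smul, hfv, smul_zero, sub_zero]
  · have hle : LinearMap.ker f ≤ Submodule.comap (LinearMap.proj i) J := by
      rw [← hT]
      refine Submodule.span_le.2 fun w hw => ?_
      exact Ideal.subset_span (Finset.mem_biUnion.2 ⟨w, hw, Finset.mem_image.2 ⟨i, Finset.mem_univ _, rfl⟩⟩)
    exact hle hv

end Local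

variable {A : Type u} [CommRing A] (M N : Type u) [AddCommGroup M] [Module A M]
  [AddCommGroup N] [Module A N]

/-- If the support of `N ≠ 0` lies in that of the finitely presented `M`, some map `M → N` is not zero. -/
theorem exists_ne_zero_hom [Module.FinitePresentation A M] (x : N) (hx : x ≠ 0)
    (hsupp : ∀ p : Ideal A, p.IsPrime → ∀ y : N, (∀ s ∉ p, s • y ≠ 0) →
      ∃ m : M, ∀ s ∉ p, s • m ≠ 0) :
    ∃ φ : M →ₗ[A] N, φ ≠ 0 := by
  classical
  let I : Ideal A := LinearMap.ker (LinearMap.toSpanSingleton A N x)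
  have hI : ∀ a : A, a ∈ I ↔ a • x = 0 := fun a => by simp [I]
  have hItop : I ≠ ⊤ := fun h => hx (by simpa using (hI 1).1 (h ▸ Submodule.mem_top))
  obtain ⟨q, hq, hIq⟩ := Ideal.exists_le_maximal I hItop
  obtain ⟨p, hp, -⟩ := Ideal.exists_minimalPrimes_le (J := q) hIq
  haveI := hp.1.1
  obtain ⟨m₀, hm₀⟩ := hsupp p hp.1.1 x fun s hs h0 => hs (hp.1.2 ((hI s).2 h0))
  let S := p.primeCompl
  let R := Localization.AtPrime p
  let Mp := LocalizedModule S M
  let Np := LocalizedModule S N
  let gM : M →ₗ[A] Mp := LocalizedModule.mkLinearMap S M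
  let gN : N →ₗ[A] Np := LocalizedModule.mkLinearMap S N
  haveI : Module.FinitePresentation R Mp :=
    inferInstanceAs (Module.FinitePresentation (Localization S) (LocalizedModule S M))
  haveI : Nontrivial Mp := by
    refine nontrivial_of_ne (gM m₀) 0 fun h => ?_
    obtain ⟨s, hs⟩ := (IsLocalizedModule.eq_zero_iff S gM).1 h
    exact hm₀ s.1 s.2 hs
  obtain ⟨n, f, J, hf, hJ, hJm, hker⟩ := exists_presentation_in_maximal (R := R) Mp
  let I' : Ideal R := I.map (algebraMap A R)
  have hI' : ∀ c : R, c ∈ I' → c • gN x = 0 := by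
    intro c hc
    have hle : I' ≤ LinearMap.ker (LinearMap.toSpanSingleton R Np (gN x)) := by
      refine Ideal.map_le_iff_le_comap.2 fun a ha => ?_
      show algebraMap A R a • gN x = 0
      rw [algebraMap_smul, ← map_smul, (hI a).1 ha, map_zero]
    exact hle hc
  have hI'' : ∀ c : R, c • gN x = 0 → c ∈ I' := by
    intro c hc
    obtain ⟨a, s, rfl⟩ := IsLocalization.exists_mk'_eq S c
    have h : gN (a • x) = 0 := by
      rw [map_smul, ← algebraMap_smul R a (gN x), ← IsLocalization.mk'_spec' R a s, mul_smul, hc,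
        smul_zero]
    obtain ⟨t, ht⟩ := (IsLocalizedModule.eq_zero_iff S gN).1 h
    have hta : t.1 * a ∈ I := (hI _).2 (by rw [mul_smul]; exact ht)
    rw [IsLocalization.mk'_eq_mul_mk'_one]
    refine Ideal.mul_mem_right _ _ ?_
    have := Ideal.mem_map_of_mem (algebraMap A R) hta
    rw [map_mul] at this
    exact (Ideal.unit_mul_mem_iff_mem _ (IsLocalization.map_units R t)).1 this
  have hrad : IsLocalRing.maximalIdeal R ≤ I'.radical := by
    rw [Ideal.radical_eq_sInf]
    refine le_sInf ?_
    rintro Q ⟨hQ, hQp⟩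
    haveI := hQp
    have h1 : Q.comap (algebraMap A R) ≤ p := by
      intro a ha
      by_contra hap
      exact hQp.ne_top (Ideal.eq_top_of_isUnit_mem _ ha (IsLocalization.map_units R (⟨a, hap⟩ : S)))
    have h2 : p ≤ Q.comap (algebraMap A R) :=
      hp.2 ⟨inferInstance, Ideal.map_le_iff_le_comap.1 hQ⟩ h1
    rw [← Localization.AtPrime.map_eq_maximalIdeal]
    exact Ideal.map_le_iff_le_comap.2 h2
  obtain ⟨k, hk⟩ := Ideal.exists_pow_le_of_le_radical_of_fg (hJm.trans hrad) hJ
  have hex : ∃ k, J ^ k ≤ I' := ⟨k, hk⟩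
  have hk0 : Nat.find hex ≠ 0 := by
    intro h0
    have h1 := Nat.find_spec hex
    rw [h0, pow_zero, Ideal.one_eq_top] at h1
    have h2 : gN x = 0 := by simpa using hI' 1 (h1 trivial)
    obtain ⟨s, hs⟩ := (IsLocalizedModule.eq_zero_iff S gN).1 h2
    exact s.2 (hp.1.2 ((hI s.1).2 hs))
  obtain ⟨k', hk'⟩ := Nat.exists_eq_succ_of_ne_zero hk0
  obtain ⟨c, hc, hcI⟩ := SetLike.not_le_iff_exists.1 (Nat.find_min hex (show k' < Nat.find hex by omega))
  let φ₀ : (Fin (n + 1) → R) →ₗ[R] Np :=
    (LinearMap.toSpanSingleton R Np (c • gN x)).comp (LinearMap.proj 0)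
  have hφ₀ : LinearMap.ker f ≤ LinearMap.ker φ₀ := by
    intro v hv
    show v 0 • c • gN x = 0
    rw [smul_smul]
    refine hI' _ ((Nat.find_spec hex) ?_)
    rw [hk', pow_succ, mul_comm (v 0) c]
    exact Ideal.mul_mem_mul hc (hker v hv 0)
  let φp : Mp →ₗ[R] Np :=
    ((LinearMap.ker f).liftQ φ₀ hφ₀).comp (f.quotKerEquivOfSurjective hf).symm.toLinearMap
  have hφp : φp (f (Pi.single 0 1)) ≠ 0 := by
    have e : (f.quotKerEquivOfSurjective hf).symm (f (Pi.single 0 1)) =
        Submodule.Quotient.mk (Pi.single 0 1) := by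
      rw [LinearEquiv.symm_apply_eq]
      rfl
    show (LinearMap.ker f).liftQ φ₀ hφ₀ ((f.quotKerEquivOfSurjective hf).symm _) ≠ 0
    rw [e, Submodule.liftQ_apply]
    show (Pi.single 0 1 : Fin (n + 1) → R) 0 • c • gN x ≠ 0
    rw [Pi.single_eq_same, one_smul]
    exact fun h => hcI (hI'' c h)
  obtain ⟨φ, s, hφ⟩ := Module.FinitePresentation.exists_lift_of_isLocalizedModule S gN
    ((φp.restrictScalars A).comp gM)
  refine ⟨φ, fun h0 => hφp ?_⟩
  have hz : ∀ m, φp (gM m) = 0 := fun m => by
    have h := LinearMap.congr_fun hφ m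
    rw [h0] at h
    simp only [LinearMap.comp_apply, LinearMap.zero_apply, map_zero, LinearMap.smul_apply,
      LinearMap.restrictScalars_apply] at h
    exact ((Module.End.isUnit_iff _).1 (IsLocalizedModule.map_units gN s)).1
      (h.symm.trans (map_zero _).symm)
  obtain ⟨⟨m, t⟩, hmt⟩ := IsLocalizedModule.surj S gM (f (Pi.single 0 1))
  have h := congrArg φp hmt
  rw [hz] at h
  refine ((Module.End.isUnit_iff _).1 (IsLocalizedModule.map_units gN t)).1 ?_
  refine Eq.trans ?_ (map_zero _).symm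
  refine Eq.trans ?_ h
  exact (LinearMap.map_smul_of_tower φp t _).symm

end Groth.Agent.SerreClosLib
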